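import Cfsg.Agent.H613.KKL.Defs
import Cfsg.Agent.H641.Inertial
import Cfsg.Agent.H686.PairCrit

/-!
# S4546 (A3): the canonical character of `C_G(D)`, inertial quotient of order divisible by 7 (helper640)

* `seven_of`: a 7-element normalising `D ≅ 2^3` and not centralizing it is transitive on `D#`;
* `A3`: for a block `B` with defect group `D ≅ 2^3` and a block `c` of `C_G(D)` inducing `B` with `7 ∣ |T : C|`: the
  canonical character of `c` and a 7-element fixing it.
-/

set_option autoImplicit false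

open Cfsg Cfsg.Agent.H613.KKL

universe u

namespace Cfsg.Agent.H640.KKL

open Cfsg.Agent.H644 Cfsg.Agent.H686.PairCrit

/-- a 7-element normalising `D ≅ 2^3` and not centralizing it is transitive on `D#` -/
theorem seven_of {G : Type*} [Group G] {D : Subgroup G} (h8 : E8 D) {y : G}
    (hn : y ∈ Subgroup.normalizer (D : Set G)) {m : ℕ} (hm : orderOf y = 7 ^ m)
    (hc : y ∉ Subgroup.centralizer (D : Set G)) : Seven D y := by
  classical
  have hfin : Finite D := Nat.finite_of_card_ne_zero (by rw [h8.card]; norm_num)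
  obtain ⟨a0, ha0, hne⟩ : ∃ a0 ∈ D, y * a0 * y⁻¹ ≠ a0 := by
    by_contra hcon
    push Not at hcon
    refine hc (Subgroup.mem_centralizer_iff.2 fun a ha => ?_)
    have := hcon a ha
    rw [mul_inv_eq_iff_eq_mul] at this
    exact this.symm
  have ha1 : a0 ≠ 1 := by
    rintro rfl
    exact hne (by group)
  have hmem : ∀ k : ℕ, y ^ k * a0 * (y ^ k)⁻¹ ∈ D := fun k =>
    (Subgroup.mem_normalizer_iff.1 (pow_mem hn k) a0).1 ha0
  have hne1 : ∀ k : ℕ, y ^ k * a0 * (y ^ k)⁻¹ ≠ 1 := by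
    intro k h
    rw [mul_inv_eq_one] at h
    exact ha1 (mul_left_cancel (h.trans (mul_one _).symm))
  have hkey : ∀ k : ℕ, 0 < k → k < 7 → y ^ k * a0 * (y ^ k)⁻¹ ≠ a0 := by
    intro k h0 h7 h
    have hco : k.Coprime (orderOf y) := by
      rw [hm]
      refine Nat.Coprime.pow_right m ?_
      rw [Nat.coprime_comm, Nat.Prime.coprime_iff_not_dvd (by norm_num)]
      exact fun hd => absurd (Nat.le_of_dvd h0 hd) (by omega)
    obtain ⟨j, hj⟩ := exists_pow_eq_self_of_coprime hco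
    have h1 : Commute (y ^ k) a0 := mul_inv_eq_iff_eq_mul.1 h
    have h2 := h1.pow_left j
    rw [hj] at h2
    exact hne (by rw [h2.eq, mul_inv_cancel_right])
  -- seven distinct elements
  let f : Fin 7 → {d : D // d ≠ 1} := fun k => ⟨⟨y ^ (k : ℕ) * a0 * (y ^ (k : ℕ))⁻¹, hmem k⟩, fun h =>
    hne1 k (congrArg Subtype.val h)⟩
  have hlt : ∀ i j : Fin 7, (i : ℕ) < j → f i ≠ f j := by
    intro i j hij h
    have h1 : y ^ (i : ℕ) * a0 * (y ^ (i : ℕ))⁻¹ = y ^ (j : ℕ) * a0 * (y ^ (j : ℕ))⁻¹ :=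
      congrArg (fun d : {d : D // d ≠ 1} => ((d : D) : G)) h
    obtain ⟨k, hk⟩ := Nat.exists_eq_add_of_lt hij
    have h2 : (j : ℕ) = i + (k + 1) := by omega
    apply hkey (k + 1) (by omega) (by have := j.2; omega)
    rw [h2, pow_add] at h1
    have h3 : y ^ (i : ℕ) * (y ^ (k + 1) * a0 * (y ^ (k + 1))⁻¹) * (y ^ (i : ℕ))⁻¹ =
        y ^ (i : ℕ) * a0 * (y ^ (i : ℕ))⁻¹ := by
      rw [h1]; group
    exact mul_left_cancel (mul_right_cancel h3)
  have hinj : Function.Injective f := by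
    intro i j h
    rcases lt_trichotomy (i : ℕ) j with h1 | h1 | h1
    · exact absurd h (hlt i j h1)
    · exact Fin.ext h1
    · exact absurd h.symm (hlt j i h1)
  have hcard : Nat.card {d : D // d ≠ 1} = 7 := by
    have := Fintype.ofFinite D
    rw [Nat.card_eq_fintype_card]
    have h1 : Fintype.card {d : D // d ≠ 1} = Fintype.card D - 1 := Set.card_ne_eq (1 : D)
    rw [h1, ← Nat.card_eq_fintype_card, h8.card]
  have hbij : Function.Bijective f := by
    rw [Nat.bijective_iff_injective_and_card]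
    exact ⟨hinj, by rw [hcard, Nat.card_eq_fintype_card, Fintype.card_fin]⟩
  have hsurj : ∀ b ∈ D, b ≠ 1 → ∃ k : ℕ, y ^ k * a0 * (y ^ k)⁻¹ = b := by
    intro b hb hb1
    obtain ⟨k, hk⟩ := hbij.2 ⟨⟨b, hb⟩, fun h => hb1 (congrArg Subtype.val h)⟩
    exact ⟨k, congrArg (fun d : {d : D // d ≠ 1} => ((d : D) : G)) hk⟩
  refine ⟨fun d => (Subgroup.mem_normalizer_iff.1 hn d).symm, ⟨m, hm⟩, fun a ha ha1' b hb hb1 => ?_⟩
  obtain ⟨i, hi⟩ := hsurj a ha ha1'
  obtain ⟨j, hj⟩ := hsurj b hb hb1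
  have h0 : orderOf y ≠ 0 := by rw [hm]; positivity
  refine ⟨j + i * (orderOf y - 1), ?_⟩
  have h1 : y ^ (j + i * (orderOf y - 1)) * y ^ i = y ^ j := by
    rw [← pow_add]
    have : j + i * (orderOf y - 1) + i = j + orderOf y * i := by
      obtain ⟨t, ht⟩ := Nat.exists_eq_succ_of_ne_zero h0
      rw [ht, Nat.succ_sub_one, Nat.succ_eq_add_one]
      ring
    rw [this, pow_add, pow_mul, pow_orderOf_eq_one, one_pow, mul_one]
  rw [← hi, ← hj, ← h1]
  group

/-- the kernel of a character -/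
theorem apply_mul_of_ker {H : Type*} [Group H] [Finite H] {χ : H → ℂ} (hχ : IsIrrCharacter H χ) {x : H}
    (hx : χ x = χ 1) (y : H) : χ (x * y) = χ y := by
  obtain ⟨n, ρ, hρ, rfl⟩ := hχ
  rw [Representation.char_one, Cfsg.Agent.Characters.Values.character_eq_finrank_iff] at hx
  rw [Representation.character, Representation.character, map_mul, hx, Module.End.mul_eq_comp,
    LinearMap.id_comp]

variable {G : Type u} [Group G] [Finite G]

local notation "Cn(" Q ")" => Subgroup.centralizer ((Q : Subgroup G) : Set G)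

/-- A3: canonical character. -/
theorem A3 {M : Ideal AlgInt} (hM : IsPModular 2 M) {B : Set (IrrCharacter G)}
    (_hB : IsPBlock M B) {D : Subgroup G} (hD : IsDefectGroup 2 M B D) (h8 : E8 D)
    (c : Set (IrrCharacter ↥(Subgroup.centralizer (D : Set G))))
    (hc : IsInducedBlock M (Subgroup.centralizer (D : Set G)) c B) (T : Subgroup G)
    (hT : ∀ g : G, g ∈ T ↔ (g ∈ Subgroup.normalizer (D : Set G) ∧
      StabilizesBlock (Subgroup.centralizer (D : Set G)) c g))
    (h7 : 7 ∣ (Subgroup.centralizer (D : Set G)).relIndex T) :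
    ∃ (θ : IrrCharacter ↥(Subgroup.centralizer (D : Set G))) (y : G),
      (∀ d e : ↥(Subgroup.centralizer (D : Set G)), (d : G) ∈ D →
        (θ : ↥(Subgroup.centralizer (D : Set G)) → ℂ) (d * e) = (θ : ↥(Subgroup.centralizer (D : Set G)) → ℂ) e) ∧
      (charDegree (θ : ↥(Subgroup.centralizer (D : Set G)) → ℂ)).factorization 2 + 3 =
        (Nat.card ↥(Subgroup.centralizer (D : Set G))).factorization 2 ∧
      Seven D y ∧ ∀ e e' : ↥(Subgroup.centralizer (D : Set G)), (e' : G) = y * e * y⁻¹ →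
        (θ : ↥(Subgroup.centralizer (D : Set G)) → ℂ) e' = (θ : ↥(Subgroup.centralizer (D : Set G)) → ℂ) e := by
  have hMp : M.IsPrime := hM.2.1.isPrime
  have : Fact (Nat.Prime 2) := ⟨Nat.prime_two⟩
  have hmax := Cfsg.Agent.H641.isMaximal_of_induced hM hD hc
  obtain ⟨θ, hθc, hker, hdeg, -⟩ := crit_mp hM hmax
  have hDC : D ≤ Subgroup.centralizer (D : Set G) := by
    intro x hx
    rw [Subgroup.mem_centralizer_iff]
    intro z hz
    have h1 : (x * z) * (x * z) = 1 := h8.inv _ (D.mul_mem hx hz)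
    have h2 : x * x = 1 := h8.inv x hx
    have h3 : z * z = 1 := h8.inv z hz
    calc z * x = (x * x) * (z * x) * (z * z) := by rw [h2, h3, one_mul, mul_one]
      _ = x * ((x * z) * (x * z)) * z := by group
      _ = x * z := by rw [h1, mul_one]
  have hinf : D ⊓ Subgroup.centralizer (D : Set G) = D := inf_eq_left.2 hDC
  rw [hinf, h8.card] at hdeg
  have h23 : (8 : ℕ).factorization 2 = 3 := by
    rw [show (8 : ℕ) = 2 ^ 3 by norm_num, Nat.Prime.factorization_pow Nat.prime_two, Finsupp.single_eq_same]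
  rw [h23] at hdeg
  -- the block `c` has defect group `D`
  have hDZ : D.subgroupOf Cn(D) ≤ Subgroup.center Cn(D) := subgroupOf_le_center D
  have hDp : IsPGroup 2 (D.subgroupOf Cn(D)) :=
    hmax.1.1.1.comap_of_injective (Cn(D)).subtype (Cn(D)).subtype_injective
  have hidx := card_index (p := 2) D
  rw [card_subgroupOf_eq, hinf, h8.card, h23] at hidx
  have hdeg' : (charDegree (θ : Cn(D) → ℂ)).factorization 2 = (D.subgroupOf Cn(D)).index.factorization 2 := by
    have h1 : 3 + (D.subgroupOf Cn(D)).index.factorization 2 = (Nat.card Cn(D)).factorization 2 := hidx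
    omega
  have hdef := (S0969.result 2 M hM (D.subgroupOf Cn(D)) hDp hDZ θ hdeg').1
  have hbl : blockOf M (θ : Cn(D) → ℂ) = c := (Cfsg.Agent.Blocks.Basic.isPBlock_eq_blockOf hc.1 hθc).symm
  rw [hbl] at hdef
  have hGD : D.subgroupOf Cn(D) ⊔ Subgroup.centralizer (D.subgroupOf Cn(D) : Set Cn(D)) = ⊤ := by
    rw [centralizer_eq_top_of_le_center hDZ, sup_top_eq]
  obtain ⟨⟨θ0, -, huniq⟩, -, -⟩ := S0968.result 2 M hM _ hDp hGD c hc.1 hdef
  have hθ0 : θ = θ0 := huniq θ ⟨hθc, fun z hz => hker z hz⟩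
  subst hθ0
  -- the element of 7-power order
  obtain ⟨y, ⟨m, hm⟩, hyC⟩ : ∃ y : T, (∃ k : ℕ, orderOf y = 7 ^ k) ∧ y ∉ (Cn(D)).subgroupOf T := by
    by_contra hcon
    push Not at hcon
    exact not_dvd_index (p := 7) (by norm_num) ((Cn(D)).subgroupOf T) (fun x hx => by
      obtain ⟨k, hk⟩ := hx
      exact hcon x ⟨k, hk⟩) h7
  obtain ⟨hyN, hyst⟩ := (hT y).1 y.2
  refine ⟨θ, y, fun d e hd => apply_mul_of_ker θ.2 (hker d hd) e, hdeg,
    seven_of h8 hyN (m := m) (by rw [Subgroup.orderOf_coe]; exact hm) hyC, fun e e' he => ?_⟩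
  obtain ⟨θ', hθ', hconj⟩ := hyst.2 θ hθc
  have h1 : θ' = θ := huniq θ' ⟨hθ', fun z hz => by
    have hz' : ((z : Cn(D)) : G) ∈ D := hz
    have h2 : (y : G)⁻¹ * z * y ∈ D := by
      have := (Subgroup.mem_normalizer_iff.1 (inv_mem hyN) (z : G)).1 hz'
      rwa [inv_inv] at this
    have h3 := hconj ⟨(y : G)⁻¹ * z * y, hDC h2⟩ z (by
      show (z : G) = y * ((y : G)⁻¹ * z * y) * (y : G)⁻¹
      group)
    have h4 := hconj 1 1 (by simp)
    rw [h3, h4]
    exact hker _ h2⟩
  have h2 := hconj e e' he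
  rwa [h1] at h2

end Cfsg.Agent.H640.KKL
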